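import Cfsg.Prelude.Def_Amalgam

set_option autoImplicit false
open Cfsg

namespace Cfsg.Agent.H7

variable {X : Type*} [Group X] (M₁ M₂ : Subgroup X)

theorem cg_adj_iff (a b : Cfsg.CosetVertex M₁ M₂) :
    (Cfsg.cosetGraph M₁ M₂).Adj a b ↔
      ∃ x : X, (a = Sum.inl (x : X ⧸ M₁) ∧ b = Sum.inr (x : X ⧸ M₂)) ∨
        (a = Sum.inr (x : X ⧸ M₂) ∧ b = Sum.inl (x : X ⧸ M₁)) := by
  unfold Cfsg.cosetGraph
  rw [SimpleGraph.fromRel_adj]
  constructor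
  · rintro ⟨_, ⟨x, h1, h2⟩ | ⟨x, h1, h2⟩⟩
    · exact ⟨x, Or.inl ⟨h1, h2⟩⟩
    · exact ⟨x, Or.inr ⟨h2, h1⟩⟩
  · rintro ⟨x, ⟨h1, h2⟩ | ⟨h1, h2⟩⟩
    · exact ⟨by rw [h1, h2]; simp, Or.inl ⟨x, h1, h2⟩⟩
    · exact ⟨by rw [h1, h2]; simp, Or.inr ⟨x, h2, h1⟩⟩

theorem cg_adj_inl_inr (x : X) :
    (Cfsg.cosetGraph M₁ M₂).Adj (Sum.inl (x : X ⧸ M₁)) (Sum.inr (x : X ⧸ M₂)) :=
  (cg_adj_iff M₁ M₂ _ _).2 ⟨x, Or.inl ⟨rfl, rfl⟩⟩

theorem cg_smul_inl (g x : X) :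
    g • (Sum.inl (x : X ⧸ M₁) : Cfsg.CosetVertex M₁ M₂) = Sum.inl ((g * x : X) : X ⧸ M₁) := rfl

theorem cg_smul_inr (g x : X) :
    g • (Sum.inr (x : X ⧸ M₂) : Cfsg.CosetVertex M₁ M₂) = Sum.inr ((g * x : X) : X ⧸ M₂) := rfl

theorem cg_smul_adj (g : X) {a b : Cfsg.CosetVertex M₁ M₂}
    (h : (Cfsg.cosetGraph M₁ M₂).Adj a b) : (Cfsg.cosetGraph M₁ M₂).Adj (g • a) (g • b) := by
  rw [cg_adj_iff] at h ⊢
  rcases h with ⟨x, ⟨h1, h2⟩ | ⟨h1, h2⟩⟩
  · exact ⟨g * x, Or.inl ⟨by rw [h1]; rfl, by rw [h2]; rfl⟩⟩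
  · exact ⟨g * x, Or.inr ⟨by rw [h1]; rfl, by rw [h2]; rfl⟩⟩

theorem cg_stabilizer_inl (x : X) :
    MulAction.stabilizer X (Sum.inl (x : X ⧸ M₁) : Cfsg.CosetVertex M₁ M₂) =
      M₁.map (MulAut.conj x).toMonoidHom := by
  ext g
  rw [MulAction.mem_stabilizer_iff, cg_smul_inl, Sum.inl.injEq, QuotientGroup.eq, Subgroup.mem_map]
  constructor
  · intro h
    refine ⟨x⁻¹ * g * x, ?_, ?_⟩
    · have := M₁.inv_mem h
      simpa [mul_assoc] using this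
    · simp [MulAut.conj_apply, mul_assoc]
  · rintro ⟨m, hm, rfl⟩
    have : (x * m * x⁻¹ * x)⁻¹ * x = m⁻¹ := by group
    simp only [MulEquiv.coe_toMonoidHom, MulAut.conj_apply]
    rw [this]
    exact M₁.inv_mem hm

theorem cg_stabilizer_inr (x : X) :
    MulAction.stabilizer X (Sum.inr (x : X ⧸ M₂) : Cfsg.CosetVertex M₁ M₂) =
      M₂.map (MulAut.conj x).toMonoidHom := by
  ext g
  rw [MulAction.mem_stabilizer_iff, cg_smul_inr, Sum.inr.injEq, QuotientGroup.eq, Subgroup.mem_map]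
  constructor
  · intro h
    refine ⟨x⁻¹ * g * x, ?_, ?_⟩
    · have := M₂.inv_mem h
      simpa [mul_assoc] using this
    · simp [MulAut.conj_apply, mul_assoc]
  · rintro ⟨m, hm, rfl⟩
    have : (x * m * x⁻¹ * x)⁻¹ * x = m⁻¹ := by group
    simp only [MulEquiv.coe_toMonoidHom, MulAut.conj_apply]
    rw [this]
    exact M₂.inv_mem hm

/-- The kernel of the action on the coset graph lies in `M₁ ⊓ M₂`. -/
theorem cg_kernel_le :
    (MulAction.toPermHom X (Cfsg.CosetVertex M₁ M₂)).ker ≤ M₁ ⊓ M₂ := by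
  intro g hg
  rw [MonoidHom.mem_ker] at hg
  have h1 : g • (Sum.inl ((1 : X) : X ⧸ M₁) : Cfsg.CosetVertex M₁ M₂) = Sum.inl ((1 : X) : X ⧸ M₁) := by
    have := congrArg (fun σ => σ (Sum.inl ((1 : X) : X ⧸ M₁) : Cfsg.CosetVertex M₁ M₂)) hg
    simpa using this
  have h2 : g • (Sum.inr ((1 : X) : X ⧸ M₂) : Cfsg.CosetVertex M₁ M₂) = Sum.inr ((1 : X) : X ⧸ M₂) := by
    have := congrArg (fun σ => σ (Sum.inr ((1 : X) : X ⧸ M₂) : Cfsg.CosetVertex M₁ M₂)) hg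
    simpa using this
  have h1' : g ∈ MulAction.stabilizer X (Sum.inl ((1 : X) : X ⧸ M₁) : Cfsg.CosetVertex M₁ M₂) := h1
  have h2' : g ∈ MulAction.stabilizer X (Sum.inr ((1 : X) : X ⧸ M₂) : Cfsg.CosetVertex M₁ M₂) := h2
  rw [cg_stabilizer_inl] at h1'
  rw [cg_stabilizer_inr] at h2'
  simp only [map_one, MulEquiv.toMonoidHom_eq_coe] at h1' h2'
  constructor
  · simpa using h1'
  · simpa using h2'

theorem cg_kernel_eq_bot (h : ∀ N : Subgroup X, N ≤ M₁ ⊓ M₂ → N.Normal → N = ⊥) :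
    (MulAction.toPermHom X (Cfsg.CosetVertex M₁ M₂)).ker = ⊥ :=
  h _ (cg_kernel_le M₁ M₂) inferInstance

theorem cg_reach_step (x g : X) (hg : g ∈ M₁ ∨ g ∈ M₂) :
    (Cfsg.cosetGraph M₁ M₂).Reachable (Sum.inl (x : X ⧸ M₁)) (Sum.inl ((x * g : X) : X ⧸ M₁)) := by
  rcases hg with hg | hg
  · have : ((x * g : X) : X ⧸ M₁) = (x : X ⧸ M₁) := by
      rw [QuotientGroup.eq]; simp [hg]
    rw [this]
  · have h1 := cg_adj_inl_inr M₁ M₂ x
    have h2 := cg_adj_inl_inr M₁ M₂ (x * g)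
    have : ((x * g : X) : X ⧸ M₂) = (x : X ⧸ M₂) := by
      rw [QuotientGroup.eq]; simp [hg]
    rw [this] at h2
    exact h1.reachable.trans h2.symm.reachable

theorem cg_reach_all (hgen : M₁ ⊔ M₂ = ⊤) (g : X) :
    ∀ x : X, (Cfsg.cosetGraph M₁ M₂).Reachable (Sum.inl (x : X ⧸ M₁)) (Sum.inl ((x * g : X) : X ⧸ M₁)) := by
  have hg : g ∈ Subgroup.closure ((M₁ : Set X) ∪ (M₂ : Set X)) := by
    rw [Subgroup.closure_union, Subgroup.closure_eq, Subgroup.closure_eq, hgen]; trivial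
  induction hg using Subgroup.closure_induction with
  | mem y hy => exact fun x => cg_reach_step M₁ M₂ x y hy
  | one => intro x; rw [mul_one]
  | mul a b _ _ iha ihb =>
    intro x
    rw [← mul_assoc]
    exact (iha x).trans (ihb (x * a))
  | inv a _ iha =>
    intro x
    have := iha (x * a⁻¹)
    rw [inv_mul_cancel_right] at this
    exact this.symm

theorem cg_connected (hgen : M₁ ⊔ M₂ = ⊤) : (Cfsg.cosetGraph M₁ M₂).Connected := by
  have : Nonempty (Cfsg.CosetVertex M₁ M₂) := ⟨Sum.inl ((1 : X) : X ⧸ M₁)⟩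
  refine ⟨?_⟩
  have key : ∀ v : Cfsg.CosetVertex M₁ M₂,
      (Cfsg.cosetGraph M₁ M₂).Reachable (Sum.inl ((1 : X) : X ⧸ M₁)) v := by
    intro v
    rcases v with v | v
    · induction v using QuotientGroup.induction_on with
      | H x =>
        have := cg_reach_all M₁ M₂ hgen x 1
        rwa [one_mul] at this
    · induction v using QuotientGroup.induction_on with
      | H x =>
        have := cg_reach_all M₁ M₂ hgen x 1
        rw [one_mul] at this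
        exact this.trans (cg_adj_inl_inr M₁ M₂ x).reachable
  intro a b
  exact (key a).symm.trans (key b)

/-- A predicate on vertices that is closed under adjacency and holds at one vertex holds everywhere
in a connected graph. -/
theorem cg_induct (hgen : M₁ ⊔ M₂ = ⊤) (P : Cfsg.CosetVertex M₁ M₂ → Prop)
    (hstep : ∀ a b, (Cfsg.cosetGraph M₁ M₂).Adj a b → P a → P b)
    (a₀ : Cfsg.CosetVertex M₁ M₂) (h₀ : P a₀) : ∀ v, P v := by
  intro v
  have hr : (Cfsg.cosetGraph M₁ M₂).Reachable a₀ v := (cg_connected M₁ M₂ hgen).preconnected a₀ v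
  obtain ⟨w⟩ := hr
  induction w with
  | nil => exact h₀
  | cons hadj _ ih => exact ih (hstep _ _ hadj h₀)

/-- Transitivity of a vertex stabilizer on the neighbours of its vertex. -/
theorem cg_neighbours_transitive (δ μ μ' : Cfsg.CosetVertex M₁ M₂)
    (hμ : (Cfsg.cosetGraph M₁ M₂).Adj δ μ) (hμ' : (Cfsg.cosetGraph M₁ M₂).Adj δ μ') :
    ∃ g ∈ MulAction.stabilizer X δ, g • μ = μ' := by
  rw [cg_adj_iff] at hμ hμ'
  rcases hμ with ⟨y, ⟨h1, h2⟩ | ⟨h1, h2⟩⟩ <;> rcases hμ' with ⟨y', ⟨h1', h2'⟩ | ⟨h1', h2'⟩⟩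
  · refine ⟨y' * y⁻¹, ?_, ?_⟩
    · rw [MulAction.mem_stabilizer_iff]
      conv_lhs => rw [h1]
      rw [cg_smul_inl, inv_mul_cancel_right, ← h1']
    · rw [h2, h2', cg_smul_inr, inv_mul_cancel_right]
  · rw [h1] at h1'; cases h1'
  · rw [h1] at h1'; cases h1'
  · refine ⟨y' * y⁻¹, ?_, ?_⟩
    · rw [MulAction.mem_stabilizer_iff]
      conv_lhs => rw [h1]
      rw [cg_smul_inr, inv_mul_cancel_right, ← h1']
    · rw [h2, h2', cg_smul_inl, inv_mul_cancel_right]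

end Cfsg.Agent.H7
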